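import Cfsg.Agent.SuzG2.Tables
import Cfsg.Agent.GTwoFour.Rep
import Cfsg.Agent.CosetEnum.Engine

/-!
Root words of `G₂(4)` evaluated on codes of vectors of the six-dimensional module.
-/

set_option autoImplicit false
set_option maxRecDepth 100000

namespace CfsgLib.SuzG2

open Cfsg.Lie CfsgLib.CriticalFive CfsgLib.Chevalley CfsgLib.GTwoFour CfsgLib.CosetEnum Matrix
open scoped MatrixGroups

/-- The Chevalley group of type `G₂` over the field with four elements. -/
abbrev G24 : Type := ↥(chevG2.group F4)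

/-- The root of a letter. -/
def lRoot (x : ℕ) : Fin chevG2.nroots := ⟨x / 2 % 12, Nat.mod_lt _ (by decide)⟩

/-- The parameter of a letter. -/
def lPar (x : ℕ) : F4 := bif Nat.beq (x % 2) 0 then 1 else w1

/-- The scalar with a given code. -/
def ofC (k : ℕ) : F4 := ⟨k.testBit 0, k.testBit 1⟩

/-- The vector with a given code. -/
def dec (n : ℕ) : Fin 6 → F4 := fun i => ⟨n.testBit (2 * i.val), n.testBit (2 * i.val + 1)⟩

/-- The code of an entry. -/
def ent (n j : ℕ) : ℕ := (n >>> (2 * j)) &&& 3

/-- A scaled column of a root letter. -/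
def colv (x j k : ℕ) : ℕ := (Tab.colT.getD x 0 >>> (12 * (4 * j + k))) &&& 4095

/-- The action of a root letter on codes. -/
def stepC (x n : ℕ) : ℕ :=
  colv x 0 (ent n 0) ^^^ colv x 1 (ent n 1) ^^^ colv x 2 (ent n 2) ^^^ colv x 3 (ent n 3) ^^^
    colv x 4 (ent n 4) ^^^ colv x 5 (ent n 5)

/-- Walk a word from the right. -/
def walkC (w : List ℕ) (n : ℕ) : ℕ :=
  List.rec n (fun x _ ih => force ih fun m => force (stepC x m) fun r => r) w

theorem col_check : ∀ (x : Fin 24) (j : Fin 6) (k : Fin 4) (i : Fin 6),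
    dec (colv x.val j.val k.val) i =
      rootMat (lRoot x.val : ℕ) (lPar x.val) i j * ofC k.val := by
  decide +kernel

theorem dec_xor (a b : ℕ) : dec (a ^^^ b) = dec a + dec b := by
  funext i
  simp only [dec, Nat.testBit_xor, Pi.add_apply]
  rfl

theorem ofC_ent (n : ℕ) (j : Fin 6) : ofC (ent n j.val) = dec n j := by
  simp [ofC, ent, dec, Nat.testBit_shiftRight, show (3 : ℕ).testBit 0 = true from rfl,
    show (3 : ℕ).testBit 1 = true from rfl]

theorem ent_lt (n j : ℕ) : ent n j < 4 := Nat.lt_succ_of_le Nat.and_le_right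

theorem dec_stepC {x : ℕ} (hx : x < 24) (n : ℕ) :
    dec (stepC x n) = rootMat (lRoot x : ℕ) (lPar x) *ᵥ dec n := by
  funext i
  have h : ∀ j : Fin 6, dec (colv x j.val (ent n j.val)) i =
      rootMat (lRoot x : ℕ) (lPar x) i j * dec n j := fun j => by
    refine (col_check ⟨x, hx⟩ j ⟨_, ent_lt n j.val⟩ i).trans ?_
    rw [ofC_ent]
  simp only [stepC, dec_xor, Pi.add_apply, Matrix.mulVec, dotProduct, Fin.sum_univ_six]
  rw [← h 0, ← h 1, ← h 2, ← h 3, ← h 4, ← h 5]
  rfl

/-- A root letter in the group. -/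
noncomputable def rootElt (x : ℕ) : G24 :=
  ⟨X good_chevG2 (lRoot x) (lPar x), X_mem_group good_chevG2 _ _⟩

theorem rep_rootElt (x : ℕ) : ((rep (rootElt x) : GL (Fin 6) F4) : M6) =
    rootMat (lRoot x : ℕ) (lPar x) := by
  have h : rootElt x = pairEquiv ⟨(X good_chevG2 (lRoot x) (lPar x), rootUnit (lRoot x) (lPar x)),
      Subgroup.subset_closure ⟨_, _, rfl⟩⟩ := Subtype.ext rfl
  simp [h, rep, projSnd, rootUnit]

theorem dec_walkC : ∀ w : List ℕ, (∀ x ∈ w, x < 24) → ∀ n,
    dec (walkC w n) = ((rep (prodw rootElt w) : GL (Fin 6) F4) : M6) *ᵥ dec n := by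
  intro w
  induction w with
  | nil => intro _ n; simp [walkC, prodw]
  | cons x w ih =>
    intro h n
    have e : walkC (x :: w) n = stepC x (walkC w n) := by
      show force (walkC w n) (fun m => force (stepC x m) fun r => r) = _
      rw [force_eq, force_eq]
    rw [e, dec_stepC (h x List.mem_cons_self), ih fun y hy => h y (List.mem_cons_of_mem x hy),
      prodw_cons, map_mul, Units.val_mul, ← Matrix.mulVec_mulVec, rep_rootElt]

/-- The check that two root words agree. -/
def eqW (v w : List ℕ) : Bool :=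
  v.all (fun x => Nat.blt x 24) && w.all (fun x => Nat.blt x 24) &&
    [1, 4, 16, 64, 256, 1024].all fun n => Nat.beq (walkC v n) (walkC w n)

theorem prodw_eq_of_eqW {v w : List ℕ} (h : eqW v w = true) :
    prodw rootElt v = prodw rootElt w := by
  simp only [eqW, Bool.and_eq_true, List.all_eq_true, Nat.blt_eq] at h
  obtain ⟨⟨hv, hw⟩, hn⟩ := h
  refine rep_injective (Units.ext (Matrix.ext_of_mulVec_single fun j => ?_))
  obtain ⟨n, hn', hj⟩ : ∃ n ∈ [1, 4, 16, 64, 256, 1024], dec n = Pi.single j (1 : F4) := by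
    revert j; decide +kernel
  rw [← hj, ← dec_walkC v hv, ← dec_walkC w hw, Nat.eq_of_beq_eq_true (hn n hn')]

/-- A word in the generators as a root word. -/
def expand (w : List ℕ) : List ℕ := w.flatMap fun x => Tab.genW.getD x []

/-- A generator in the group. -/
noncomputable def genElt (x : ℕ) : G24 := prodw rootElt (Tab.genW.getD x [])

theorem prodw_genElt (w : List ℕ) : prodw genElt w = prodw rootElt (expand w) := by
  induction w with
  | nil => rfl
  | cons x w ih =>
    rw [prodw_cons, ih, expand, expand, List.flatMap_cons, prodw_append]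
    rfl

end CfsgLib.SuzG2
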