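import Cfsg.Agent.SuzG2.Cert.Bound
import Cfsg.Agent.SuzG2.Rep6
import Cfsg.Agent.S1042
import Cfsg.Agent.S1059
import Cfsg.Agent.ChevSimple.Instances
import Cfsg.Agent.CosetEnum.SuzH.Action

/-!
The subgroup of the presented `Suz` on `a, …, f` is `G₂(4)`.
-/

set_option autoImplicit false
set_option maxRecDepth 100000

namespace CfsgLib.SuzG2

open Cfsg.Spor Cfsg.Lie CfsgLib.CriticalFive CfsgLib.Chevalley CfsgLib.GTwoFour CfsgLib.CosetEnum
open scoped MatrixGroups

/-- The generators in the Chevalley group. -/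
noncomputable def toG (a : Gen) : G24 := genElt (ix a)

theorem en_ix' (a : Gen) : en (ix a) = a := setup.en_ix a

theorem words_fix : setup.words.all (fun w => w.all (fun x => Nat.blt x 6) &&
    eqW (expand w) []) = true := by decide +kernel

theorem prodw_toG_eq {w : List ℕ} (h : ∀ x ∈ w, x < 6) :
    prodw (toG ∘ en) w = prodw genElt w := by
  unfold prodw
  congr 1
  refine List.map_congr_left fun x hx => ?_
  show genElt (ix (en x)) = genElt x
  rw [show ix (en x) = x from setup.ix_en x (h x hx)]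

theorem prodw_toG {w : List ℕ} (hw : w ∈ setup.words) : prodw (toG ∘ en) w = 1 := by
  have h := List.all_eq_true.1 words_fix w hw
  simp only [Bool.and_eq_true, List.all_eq_true, Nat.blt_eq] at h
  rw [prodw_toG_eq h.1, prodw_genElt, prodw_eq_of_eqW h.2]
  rfl

theorem toG_sq (a : Gen) : toG a * toG a = 1 := by
  have h := prodw_toG (w := [ix a, ix a]) (by cases a <;> decide +kernel)
  simpa [prodw, en_ix'] using h

theorem rels_ok : ∀ r ∈ coxRelators edges ∪ {r | r ∈ extra}, FreeGroup.lift toG r = 1 := by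
  rintro r (⟨a, -, b, -, rfl⟩ | hr)
  · have hp : ∀ a b, ix a ≤ ix b → (toG a * toG b) ^ coxLabel edges a b = 1 := by
      intro a b hab
      have := prodw_toG (w := (List.replicate (coxLabel edges a b) [ix a, ix b]).flatten) (by
        show _ ∈ coxWords en 6 edges ++ exW
        refine List.mem_append_left _ (mem_coxWords.mpr
          ⟨ix a, ix b, setup.ix_lt a, setup.ix_lt b, hab, ?_⟩)
        rw [en_ix', en_ix'])
      rw [prodw_replicate] at this
      simpa [prodw, en_ix'] using this
    rw [map_pow, map_mul, FreeGroup.lift_apply_of, FreeGroup.lift_apply_of]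
    rcases le_total (ix a) (ix b) with h | h
    · exact hp a b h
    · have := hp b a h
      rw [coxLabel_symm] at this
      have e : toG a * toG b = (toG b * toG a)⁻¹ := by
        rw [_root_.mul_inv_rev, inv_eq_of_mul_eq_one_right (toG_sq a),
          inv_eq_of_mul_eq_one_right (toG_sq b)]
      rw [e, inv_pow, this, inv_one]
  · have hm : FreeGroup.lift toG r ∈ extra.map (FreeGroup.lift toG) := List.mem_map_of_mem hr
    rw [show extra.map (FreeGroup.lift toG) = exW.map (prodw (toG ∘ en)) from
      setup.exW_eq _ toG toG_sq] at hm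
    obtain ⟨w, hw, hw'⟩ := List.mem_map.1 hm
    rw [← hw']
    exact prodw_toG (List.mem_append_right _ hw)

/-- The homomorphism to the Chevalley group. -/
noncomputable def hom : setup.Grp →* G24 := PresentedGroup.toGroup rels_ok

theorem hom_of (a : Gen) : hom (PresentedGroup.of a) = toG a := PresentedGroup.toGroup.of _

theorem roots_fix : (List.range 24).all (fun x => (Tab.rootW.getD x []).all (fun y => Nat.blt y 6) &&
    eqW (expand (Tab.rootW.getD x [])) [x]) = true := by decide +kernel

theorem rootElt_mem {x : ℕ} (hx : x < 24) : rootElt x ∈ hom.range := by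
  have h := List.all_eq_true.1 roots_fix x (List.mem_range.2 hx)
  simp only [Bool.and_eq_true, List.all_eq_true, Nat.blt_eq] at h
  have e : prodw genElt (Tab.rootW.getD x []) = rootElt x := by
    rw [prodw_genElt, prodw_eq_of_eqW h.2, prodw_cons, prodw_nil, mul_one]
  rw [← e, ← prodw_toG_eq h.1]
  refine Subgroup.list_prod_mem _ fun z hz => ?_
  obtain ⟨y, -, rfl⟩ := List.mem_map.1 hz
  exact ⟨PresentedGroup.of (en y), hom_of _⟩

theorem f4_cases : ∀ t : F4, t = 0 ∨ t = 1 ∨ t = w1 ∨ t = 1 + w1 := by decide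

/-- It is onto. -/
theorem hom_surjective : Function.Surjective hom := by
  rw [← MonoidHom.range_eq_top, eq_top_iff]
  intro g _
  suffices h : chevG2.group F4 ≤ hom.range.map (chevG2.group F4).subtype by
    obtain ⟨g', hg', e⟩ := h g.2
    rwa [← (Subtype.ext e : g' = g)]
  refine (group_eq_closure good_chevG2).le.trans ((Subgroup.closure_le _).2 ?_)
  rintro _ ⟨r, t, rfl⟩
  have hx : ∀ s < 2, X good_chevG2 r (lPar (2 * r.val + s)) ∈
      hom.range.map (chevG2.group F4).subtype := by
    intro s hs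
    have hr : r.val < 12 := r.isLt
    refine ⟨rootElt (2 * r.val + s), rootElt_mem (by omega), ?_⟩
    show X good_chevG2 (lRoot _) _ = _
    rw [show lRoot (2 * r.val + s) = r from Fin.ext (show (2 * r.val + s) / 2 % 12 = r.val by omega)]
  have h1 : X good_chevG2 r (1 : F4) ∈ hom.range.map (chevG2.group F4).subtype := by
    have h := hx 0 (by omega)
    rwa [show lPar (2 * r.val + 0) = 1 by simp [lPar]] at h
  have h2 : X good_chevG2 r w1 ∈ hom.range.map (chevG2.group F4).subtype := by
    have h := hx 1 (by omega)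
    rwa [show lPar (2 * r.val + 1) = w1 by simp [lPar]; rfl] at h
  rcases f4_cases t with rfl | rfl | rfl | rfl
  · rw [X_zero]; exact one_mem _
  · exact h1
  · exact h2
  · rw [← X_mul]; exact mul_mem h1 h2

theorem card_target : Nat.card G24 = 251596800 := by
  rw [Cfsg.Agent.S1059.result (F := F4) F4.card_eq]
  norm_num

theorem isSimple : IsSimpleGroup G24 :=
  (ChevSimple.isSimple_of_mem (by simp)
    (ChevSimple.perfect_of_mem_small (by simp) ⟨w1, by decide, by decide⟩)
    (Cfsg.Agent.S1042.result _ (by simp))).1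

/-- The presented group is `G₂(4)`. -/
theorem nonempty_equiv : Nonempty (setup.Grp ≃* G24) := by
  obtain ⟨hfin, hle⟩ := finite_and_card_le
  haveI := hfin
  refine ⟨MulEquiv.ofBijective hom
    ((Nat.bijective_iff_surjective_and_card _).2 ⟨hom_surjective, ?_⟩)⟩
  have := Nat.card_le_card_of_surjective _ hom_surjective
  rw [card_target] at this ⊢
  omega

/-- The sub-diagram inside the diagram of `Suz`. -/
def toSuz : Gen → Suz.Gen
  | .a => .a
  | .b => .b
  | .c => .c
  | .d => .d
  | .e => .e
  | .f => .f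

theorem node_toSuz (a : Gen) : toSuz a ∈ coxNodes Suz.edges := by cases a <;> decide

theorem label_toSuz (a b : Gen) :
    coxLabel Suz.edges (toSuz a) (toSuz b) = coxLabel edges a b := by
  cases a <;> cases b <;> decide

theorem suz_rels : ∀ r ∈ coxRelators edges ∪ {r | r ∈ extra},
    FreeGroup.lift (fun a => (PresentedGroup.of (toSuz a) : Cfsg.Spor.Suz)) r = 1 := by
  rintro r (⟨a, -, b, -, rfl⟩ | hr)
  · have := PresentedGroup.one_of_mem (rels := coxRelators Suz.edges ∪ {r | r ∈ Suz.extra})
      (x := (FreeGroup.of (toSuz a) * FreeGroup.of (toSuz b)) ^ coxLabel Suz.edges (toSuz a) (toSuz b))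
      (Or.inl ⟨_, node_toSuz a, _, node_toSuz b, rfl⟩)
    rw [label_toSuz, map_pow, map_mul] at this
    rw [map_pow, map_mul, FreeGroup.lift_apply_of, FreeGroup.lift_apply_of]
    exact this
  · simp only [extra, List.mem_cons, List.not_mem_nil, or_false, Set.mem_setOf_eq] at hr
    rcases hr with rfl | rfl | rfl
    · have := PresentedGroup.one_of_mem (rels := coxRelators Suz.edges ∪ {r | r ∈ Suz.extra})
        (x := Suz.a * ((Suz.c * Suz.d) ^ 4)⁻¹) (Or.inr (by simp [Suz.extra]))
      simp only [map_pow, map_mul, map_inv, FreeGroup.lift_apply_of, toSuz] at this ⊢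
      exact this
    · have := PresentedGroup.one_of_mem (rels := coxRelators Suz.edges ∪ {r | r ∈ Suz.extra})
        (x := (Suz.a * Suz.b * Suz.c * Suz.f) ^ 5) (Or.inr (by simp [Suz.extra]))
      simp only [map_pow, map_mul, FreeGroup.lift_apply_of, toSuz] at this ⊢
      exact this
    · have := PresentedGroup.one_of_mem (rels := coxRelators Suz.edges ∪ {r | r ∈ Suz.extra})
        (x := ((Suz.b * Suz.c * Suz.d * Suz.c * Suz.d) ^ 5 * Suz.e) ^ 3)
        (Or.inr (by simp [Suz.extra]))
      simp only [map_pow, map_mul, FreeGroup.lift_apply_of, toSuz] at this ⊢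
      exact this

theorem exists_of_ne_one : ∃ a : Gen, (PresentedGroup.of (toSuz a) : Cfsg.Spor.Suz) ≠ 1 := by
  refine ⟨.b, fun h => ?_⟩
  obtain ⟨φ, e, hφ, -, -⟩ := CosetEnum.SuzH.action
  have hb : prodw CosetEnum.Suz.setup.g [1] = 1 := by
    simp only [prodw, List.map_cons, List.map_nil, List.prod_cons, List.prod_nil, mul_one]
    exact h
  have h0 := hφ [1] (by simp [CosetEnum.Suz.setup]) ⟨1, by decide +kernel⟩
  rw [hb, map_one, inv_one, Equiv.Perm.one_apply] at h0
  exact absurd h0 (by decide +kernel)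

/-- The subgroup on `a, …, f`. -/
theorem nonempty_equiv_sub :
    Nonempty ((((Subgroup.closure ({Suz.a, Suz.b, Suz.c, Suz.d, Suz.e, Suz.f} :
      Set (FreeGroup Suz.Gen))).map (PresentedGroup.mk (coxRelators Suz.edges ∪ {r | r ∈ Suz.extra}))))
      ≃* G24) := by
  obtain ⟨E⟩ := nonempty_equiv
  haveI : IsSimpleGroup G24 := isSimple
  haveI : IsSimpleGroup setup.Grp := E.isSimpleGroup
  let ψ : setup.Grp →* Cfsg.Spor.Suz := PresentedGroup.toGroup suz_rels
  have hψ : ∀ a, ψ (PresentedGroup.of a) = PresentedGroup.of (toSuz a) :=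
    fun a => PresentedGroup.toGroup.of _
  have hrange : ψ.range = ((Subgroup.closure ({Suz.a, Suz.b, Suz.c, Suz.d, Suz.e, Suz.f} :
      Set (FreeGroup Suz.Gen))).map (PresentedGroup.mk (coxRelators Suz.edges ∪ {r | r ∈ Suz.extra}))) := by
    rw [MonoidHom.range_eq_map, ← PresentedGroup.closure_range_of, MonoidHom.map_closure,
      MonoidHom.map_closure]
    congr 1
    ext z
    constructor
    · rintro ⟨_, ⟨a, rfl⟩, rfl⟩
      rw [hψ]
      refine ⟨FreeGroup.of (toSuz a), ?_, rfl⟩
      cases a <;> simp [toSuz]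
    · rintro ⟨w, hw, rfl⟩
      simp only [Set.mem_insert_iff, Set.mem_singleton_iff] at hw
      rcases hw with rfl | rfl | rfl | rfl | rfl | rfl
      · exact ⟨_, ⟨.a, rfl⟩, hψ _⟩
      · exact ⟨_, ⟨.b, rfl⟩, hψ _⟩
      · exact ⟨_, ⟨.c, rfl⟩, hψ _⟩
      · exact ⟨_, ⟨.d, rfl⟩, hψ _⟩
      · exact ⟨_, ⟨.e, rfl⟩, hψ _⟩
      · exact ⟨_, ⟨.f, rfl⟩, hψ _⟩
  have hinj : Function.Injective ψ := by
    rcases ψ.normal_ker.eq_bot_or_eq_top with h | h
    · exact (MonoidHom.ker_eq_bot_iff ψ).1 h
    · obtain ⟨a, ha⟩ := exists_of_ne_one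
      refine absurd ?_ ha
      have : PresentedGroup.of a ∈ ψ.ker := h ▸ Subgroup.mem_top _
      rwa [MonoidHom.mem_ker, hψ] at this
  rw [← hrange]
  exact ⟨(MonoidHom.ofInjective hinj).symm.trans E⟩

end CfsgLib.SuzG2
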