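import Mathlib.Data.Nat.Bitwise

/-! Columns of the root elements and words linking them to `a, …, f` (generated). -/

set_option autoImplicit false

namespace CfsgLib.SuzG2.Tab

/-- The scaled columns of a root letter, packed by twelve bits. -/
def colT : List ℕ := [0xc0c8084040003032021010000c008004000003002001000000c008004000003002001000,
  0xc0480c4080003012031020000c008004000003002001000000c008004000003002001000,
  0xc308204100003002001000000c308204100003002001000000c008004000003002001000,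
  0xc108304200003002001000000c108304200003002001000000c008004000003002001000,
  0xc038024010003302201100000cc08804400003002001000000c008004000003002001000,
  0xc028014030003102301200000c408c04800003002001000000c008004000003002001000,
  0xcc088044000030c2081040000c008004000003302201100000c008004000003002001000,
  0xc408c048000030820410c0000c008004000003102301200000c008004000003002001000,
  0xf00a005000003002001000000f00a005000003002001000000f00a005000003002001000,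
  0xd00b006000003002001000000e009007000003002001000000d00b006000003002001000,
  0xc008004000003c02801400000c008004000003c02801400000c008004000003002001000,
  0xc008004000003402c01800000c008004000003402c01800000c008004000003002001000,
  0xc008004000003002001000003c028014000003002001000003c028014000003002001000,
  0xc008004000003002001000001c038024000003002001000001c038024000003002001000,
  0xc00800400000f00a005000000c00800400000f00a005000000c00800400000f00a005000,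
  0xc00800400000700e009000000c00800400000b00600d000000c00800400000700e009000,
  0xc00800400000300200100000cc088044000003002001000030c208104000033022011000,
  0xc008004000003002001000004c0c8084000003002001000020c108304000013032021000,
  0xc008004000003002001000000c00800400003302201100000cc088044000c03802401000,
  0xc008004000003002001000000c008004000013032021000004c0c8084000803402c01000,
  0xc008004000003002001000000c0080040000c3082041000000c0080040000c3082041000,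
  0xc008004000003002001000000c0080040000430c2081000000c0080040000430c2081000,
  0xc008004000003002001000000c0080040000030020010000c0c808404000303202101000,
  0xc008004000003002001000000c008004000003002001000040cc08804000103302201000]

/-- The generators as words in root letters. -/
def genW : List (List ℕ) := [[22], [11, 16, 8, 10, 8, 16, 11], [20], [14, 3, 18, 3, 14], [10, 17, 10, 14, 19], [22, 23]]

/-- The root letters as words in the generators. -/
def rootW : List (List ℕ) := [[1, 2, 4, 3, 2, 1, 3, 2, 3, 5, 1, 2, 3, 2, 1, 4],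
  [1, 4, 3, 2, 1, 0, 1, 3, 2, 3, 5, 1, 0, 1, 2, 1, 3, 4],
  [0, 1, 0, 3, 2, 1, 3, 2, 4, 3, 2, 1, 0, 1, 2, 5, 1, 0, 1, 2, 3, 2, 1, 0, 4, 3, 2, 1, 0, 3],
  [0, 1, 2, 3, 2, 1, 0, 3, 2, 1, 4, 3, 2, 5, 1, 0, 2, 3, 2, 4, 3, 5, 1, 2, 3, 2, 1, 0],
  [1, 0, 4, 3, 2, 1, 3, 2, 1, 0, 4, 3, 5, 1, 2, 3, 2, 1, 4],
  [0, 2, 1, 0, 1, 2, 3, 4, 3, 2, 1, 3, 4, 5, 1, 2, 3, 2, 1, 0, 1, 0, 2, 4],
  [4, 3, 2, 3, 5, 1, 0, 1, 0, 2, 1, 3, 2, 4, 3, 5, 1, 0, 2, 1, 0, 1, 3, 2, 3, 4, 5],
  [2, 4, 5, 1, 2, 3, 2, 1, 3, 2, 0, 3, 4, 3, 2, 3, 5, 1, 2, 3, 2, 1, 4, 5],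
  [1, 0, 1, 2, 1, 4, 0, 3, 2, 1, 0, 1, 2, 3, 2, 1, 3, 2, 4, 5],
  [0, 2, 1, 3, 2, 4, 3, 2, 1, 0, 5, 1, 2, 3, 2, 1, 4, 3, 0, 2, 1, 0, 3, 2, 4, 5, 1, 0, 2, 1, 3, 4],
  [1, 2, 4, 3, 2, 1, 0, 1, 2, 3, 2, 1, 4],
  [1, 2, 4, 3, 2, 1, 0, 5, 1, 2, 3, 2, 1, 4],
  [1, 2, 3, 4, 3, 2, 1, 3, 2, 1, 3, 2, 4, 3, 2, 1, 0, 1, 0, 2, 3, 2, 4, 3, 2, 1, 0, 1, 5],
  [1, 2, 3, 2, 4, 3, 2, 5, 1, 0, 1, 2, 3, 2, 4, 3, 2, 1, 3, 2, 3, 2, 4, 3, 2, 1, 0, 1, 5, 1, 0],
  [1, 0, 1, 2, 3, 4, 5, 1, 0, 1, 0, 2, 3, 2, 1, 0, 1, 4, 3, 2, 5, 1, 0, 1],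
  [4, 3, 2, 1, 3, 2, 3, 4, 5, 1, 2, 3, 2, 1, 4, 3, 2, 3, 5, 1, 2, 3, 4],
  [1, 0, 1, 2, 1, 0, 1, 3, 4, 5, 1, 0, 2, 3, 2, 1, 0, 4, 3, 2, 5, 1, 0, 2, 1],
  [1, 2, 1, 3, 2, 1, 0, 4, 5, 1, 2, 3, 2, 1, 0, 4, 5, 1, 2, 3, 2, 1, 5],
  [1, 4, 3, 2, 3, 2, 1, 0, 4, 5, 1, 2, 3, 2, 1, 0, 4, 5, 1, 2, 3, 2, 1, 3, 2, 4],
  [1, 0, 1, 2, 1, 3, 2, 1, 0, 1, 3, 4, 5, 1, 0, 2, 3, 2, 1, 4, 3, 2, 1, 0, 5, 1, 2, 3, 2, 1, 0, 1],
  [2],
  [1, 2, 5, 1, 0, 1, 2, 5, 1],
  [0],
  [0, 5]]

end CfsgLib.SuzG2.Tab
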